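import Groth.Agent.AlgSp.K599.EtSite
import Groth.Agent.EtpbcB.ClosedImmEtale

/-!
# Base change of small etale sites along a closed immersion of algebraic spaces

For a representable `f : X ⟶ Y`: `exists_lift_prod` (base change preserves binary products).
For a representable closed immersion `i : Z ⟶ X` into a sheaf with an atlas:
* `exists_bc_lift`: objects of the site of `Z` come, locally, from objects of the site of `X`;
* `exists_almost_full`: so do morphisms;
* `isCoverDense_bc`, `isLocallyFull_bc`, `isLocallyFaithful_bc`.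
-/

set_option autoImplicit false
set_option backward.isDefEq.respectTransparency false
universe u
open CategoryTheory CategoryTheory.Limits AlgebraicGeometry Opposite
open AlgSp

namespace K599.BCClosed

open K599.EtSite

variable {S : Scheme.{u}}

section Prod

variable {X Y : Sp S} {f : X ⟶ Y} (hf : Representable f)

/-- Base change of small etale sites preserves binary products (existence of lifts). -/
theorem exists_lift_prod {E₁ E₂ : EtOver Y} {T : EtOver X} (t₁ : T ⟶ EtOver.bcObj hf E₁)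
    (t₂ : T ⟶ EtOver.bcObj hf E₂) :
    ∃ s : T ⟶ EtOver.bcObj hf (EtOver.prodObj E₁ E₂),
      s ≫ EtOver.bcMap hf (EtOver.prodFst E₁ E₂) = t₁ ∧
        s ≫ EtOver.bcMap hf (EtOver.prodSnd E₁ E₂) = t₂ := by
  have key : ∀ {E : EtOver Y} (t : T ⟶ EtOver.bcObj hf E),
      (yon S).map (t.hom.left ≫ EtOver.bcπ hf E) ≫ E.obj.hom = T.obj.hom ≫ f := by
    intro E t
    rw [Functor.map_comp, Category.assoc, ← (EtOver.isPullback_bcObj hf E).w, ← Category.assoc,
      EtOver.w t]
  let m : T.obj.left ⟶ (EtOver.prodObj E₁ E₂).obj.left :=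
    E₂.property.1.lift' (t₂.hom.left ≫ EtOver.bcπ hf E₂) (t₁.hom.left ≫ EtOver.bcπ hf E₁)
      (by rw [key, key])
  have hm1 : m ≫ (EtOver.prodFst E₁ E₂).hom.left = t₁.hom.left ≫ EtOver.bcπ hf E₁ :=
    Functor.relativelyRepresentable.lift'_snd _ _ _ _
  have hm2 : m ≫ (EtOver.prodSnd E₁ E₂).hom.left = t₂.hom.left ≫ EtOver.bcπ hf E₂ :=
    Functor.relativelyRepresentable.lift'_fst _ _ _ _
  have hm : T.obj.hom ≫ f = (yon S).map m ≫ (EtOver.prodObj E₁ E₂).obj.hom := by
    rw [← key t₁, ← hm1, Functor.map_comp, Category.assoc, EtOver.w]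
  let s : T ⟶ EtOver.bcObj hf (EtOver.prodObj E₁ E₂) :=
    EtOver.homMk (hf.lift T.obj.hom m hm) (hf.lift_fst _ _ _)
  have hs2 : s.hom.left ≫ hf.snd (EtOver.prodObj E₁ E₂).obj.hom = m := hf.lift_snd _ _ _
  refine ⟨s, EtOver.hom_ext _ _ (hf.hom_ext ?_ ?_), EtOver.hom_ext _ _ (hf.hom_ext ?_ ?_)⟩
  · change (yon S).map (s ≫ EtOver.bcMap hf (EtOver.prodFst E₁ E₂)).hom.left ≫
      (EtOver.bcObj hf E₁).obj.hom = (yon S).map t₁.hom.left ≫ (EtOver.bcObj hf E₁).obj.hom
    rw [EtOver.w, EtOver.w]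
  · change (s.hom.left ≫ (EtOver.bcMap hf (EtOver.prodFst E₁ E₂)).hom.left) ≫ _ = _
    rw [Category.assoc, EtOver.bcMap_snd, ← Category.assoc, hs2, hm1]
  · change (yon S).map (s ≫ EtOver.bcMap hf (EtOver.prodSnd E₁ E₂)).hom.left ≫
      (EtOver.bcObj hf E₂).obj.hom = (yon S).map t₂.hom.left ≫ (EtOver.bcObj hf E₂).obj.hom
    rw [EtOver.w, EtOver.w]
  · change (s.hom.left ≫ (EtOver.bcMap hf (EtOver.prodSnd E₁ E₂)).hom.left) ≫ _ = _
    rw [Category.assoc, EtOver.bcMap_snd, ← Category.assoc, hs2, hm2]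

end Prod

section Closed

variable {Z X : Sp S} {i : Z ⟶ X} (hi : RepWith @IsClosedImmersion i)

include hi in
theorem isClosedImmersion_bcπ (E : EtOver X) : IsClosedImmersion (EtOver.bcπ hi.1 E).left :=
  hi.2 _ _ _ (EtOver.isPullback_bcObj hi.1 E)

/-- The projection `E₁ ×_X E₂ ⟶ E₁` is surjective if `E₂ ⟶ X` is. -/
theorem surjective_prodFst {X : Sp S} (E₁ E₂ : EtOver X) (h : RepWith @Surjective E₂.obj.hom) :
    Surjective (EtOver.prodFst E₁ E₂).hom.left.left :=
  h.2 _ _ _ (E₂.property.1.isPullback E₁.obj.hom)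

/-- An object of the small etale site of `Z` is, locally, the restriction of an object of the small
etale site of `X`. -/
theorem exists_bc_lift {U : Over S} {p : (yon S).obj U ⟶ X} (hp : RepWith @Etale p)
    (hps : RepWith @Surjective p) (E : EtOver Z) (x : ↥E.obj.left.left) :
    ∃ (V : EtOver X) (h : EtOver.bcObj hi.1 V ⟶ E), x ∈ Set.range h.hom.left.left := by
  let E₀ : EtOver X := EtOver.mk p hp
  let B₀ : EtOver Z := EtOver.bcObj hi.1 E₀
  have hB₀ : RepWith @Surjective B₀.obj.hom :=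
    MorphismProperty.of_isPullback (EtOver.isPullback_bcObj hi.1 E₀).flip hps
  let P : EtOver Z := EtOver.prodObj E B₀
  have hsur := surjective_prodFst E B₀ hB₀
  obtain ⟨y, hy⟩ := hsur.surj x
  have : IsClosedImmersion (EtOver.bcπ hi.1 E₀).left := isClosedImmersion_bcπ hi E₀
  have : Etale (EtOver.prodSnd E B₀).hom.left.left := EtOver.etale_left _
  obtain ⟨V, q, hq, W, j, r, hj, hyj, hpb⟩ :=
    Groth.Agent.EtpbcB.ClosedImmEtale.exists_etale_lift (EtOver.bcπ hi.1 E₀).left
      (EtOver.prodSnd E B₀).hom.left.left y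
  let q' : Over.mk (q ≫ U.hom) ⟶ U := Over.homMk q rfl
  let EV : EtOver X := EtOver.mk ((yon S).map q' ≫ p)
    ((repWith_isMultiplicative (S := S) @Etale).comp_mem _ _ ((repWith_yon_map_iff _ _).2 hq) hp)
  let g : EV ⟶ E₀ := EtOver.homMk q' rfl
  have sq := EtOver.isPullback_bcMap_left hi.1 g
  -- the comparison iso `V ×_U U_Z ≅ W`
  have sq' : IsPullback r (j ≫ (EtOver.prodSnd E B₀).hom.left.left) q (EtOver.bcπ hi.1 E₀).left := hpb
  let e : (EtOver.bcObj hi.1 EV).obj.left.left ≅ W := sq.flip.isoIsPullback _ _ sq'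
  have he : e.hom ≫ j ≫ (EtOver.prodSnd E B₀).hom.left.left = (EtOver.bcMap hi.1 g).hom.left.left :=
    sq.flip.isoIsPullback_hom_snd _ _ sq'
  let k : (EtOver.bcObj hi.1 EV).obj.left ⟶ P.obj.left := Over.homMk (e.hom ≫ j) (by
    have h1 := Over.w (EtOver.prodSnd E B₀).hom.left
    have h2 := Over.w (EtOver.bcMap hi.1 g).hom.left
    rw [← h1, ← h2, ← he]
    simp only [Category.assoc]
    rfl)
  have hk : k ≫ (EtOver.prodSnd E B₀).hom.left = (EtOver.bcMap hi.1 g).hom.left := by
    apply Over.OverMorphism.ext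
    change (e.hom ≫ j) ≫ _ = _
    rw [Category.assoc, he]
  let h : EtOver.bcObj hi.1 EV ⟶ P := EtOver.homMk k (by
    rw [← EtOver.w (EtOver.prodSnd E B₀), ← Category.assoc, ← Functor.map_comp, hk]
    exact EtOver.w (EtOver.bcMap hi.1 g))
  refine ⟨EV, h ≫ EtOver.prodFst E B₀, ?_⟩
  obtain ⟨w, hw⟩ := hyj
  refine ⟨e.inv w, ?_⟩
  change ((e.hom ≫ j) ≫ (EtOver.prodFst E B₀).hom.left.left) (e.inv w) = x
  rw [← hy, ← hw, Category.assoc, ← Scheme.Hom.comp_apply, Iso.inv_hom_id_assoc,
    Scheme.Hom.comp_apply]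

/-- A morphism between restrictions to `Z` is, up to shrinking, the restriction of a morphism. -/
theorem exists_almost_full (U U' : EtOver X) (h : EtOver.bcObj hi.1 U ⟶ EtOver.bcObj hi.1 U') :
    ∃ (W : EtOver X) (a : W ⟶ U) (b : W ⟶ U'),
      IsIso (EtOver.bcMap hi.1 a) ∧ EtOver.bcMap hi.1 a ≫ h = EtOver.bcMap hi.1 b := by
  let P : EtOver X := EtOver.prodObj U U'
  obtain ⟨s, hs1, hs2⟩ := exists_lift_prod hi.1 (𝟙 (EtOver.bcObj hi.1 U)) h
  have hmono : Mono s.hom.left.left := by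
    have : s.hom.left.left ≫ (EtOver.bcMap hi.1 (EtOver.prodFst U U')).hom.left.left = 𝟙 _ :=
      congrArg (fun k => k.hom.left.left) hs1
    exact mono_of_mono_fac this
  have hopen : IsOpenImmersion s.hom.left.left := isOpenImmersion_of_mono_left s
  let q : (EtOver.bcObj hi.1 P).obj.left.left ⟶ P.obj.left.left := (EtOver.bcπ hi.1 P).left
  have hq : IsClosedImmersion q := isClosedImmersion_bcπ hi P
  obtain ⟨O, hO, hO'⟩ := q.isClosedEmbedding.isInducing.isOpen_iff.1
    s.hom.left.left.isOpenEmbedding.isOpen_range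
  let W : EtOver X := openSub P ⟨O, hO⟩
  let ι : W ⟶ P := openSubι P ⟨O, hO⟩
  have hι : IsOpenImmersion ι.hom.left.left :=
    inferInstanceAs (IsOpenImmersion (Scheme.Opens.ι ⟨O, hO⟩))
  have sq := EtOver.isPullback_bcMap_left hi.1 ι
  have hm : IsOpenImmersion (EtOver.bcMap hi.1 ι).hom.left.left :=
    MorphismProperty.of_isPullback (P := @IsOpenImmersion) sq.flip hι
  have hrange : Set.range (EtOver.bcMap hi.1 ι).hom.left.left = Set.range s.hom.left.left := by
    have h1 := Scheme.image_preimage_eq_of_isPullback sq.flip Set.univ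
    rw [Set.preimage_univ, Set.image_univ, Set.image_univ] at h1
    refine h1.trans ?_
    have h2 : Set.range ι.hom.left.left = O := Scheme.Opens.range_ι ⟨O, hO⟩
    rw [← hO']
    exact congrArg (fun S => q ⁻¹' S) h2
  let e : (EtOver.bcObj hi.1 W).obj.left.left ≅ (EtOver.bcObj hi.1 U).obj.left.left :=
    IsOpenImmersion.isoOfRangeEq (EtOver.bcMap hi.1 ι).hom.left.left s.hom.left.left hrange
  have he : e.hom ≫ s.hom.left.left = (EtOver.bcMap hi.1 ι).hom.left.left :=
    IsOpenImmersion.isoOfRangeEq_hom_fac _ _ _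
  let a : W ⟶ U := ι ≫ EtOver.prodFst U U'
  let b : W ⟶ U' := ι ≫ EtOver.prodSnd U U'
  have hmapa : EtOver.bcMap hi.1 a = EtOver.bcMap hi.1 ι ≫ EtOver.bcMap hi.1 (EtOver.prodFst U U') :=
    (EtOver.bc hi.1).map_comp ι (EtOver.prodFst U U')
  have hmapb : EtOver.bcMap hi.1 b = EtOver.bcMap hi.1 ι ≫ EtOver.bcMap hi.1 (EtOver.prodSnd U U') :=
    (EtOver.bc hi.1).map_comp ι (EtOver.prodSnd U U')
  have ha : (EtOver.bcMap hi.1 a).hom.left.left = e.hom := by
    have h1 : (EtOver.bcMap hi.1 a).hom.left.left =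
        (EtOver.bcMap hi.1 ι).hom.left.left ≫
          (EtOver.bcMap hi.1 (EtOver.prodFst U U')).hom.left.left :=
      congrArg (fun k => k.hom.left.left) hmapa
    have h2 : s.hom.left.left ≫ (EtOver.bcMap hi.1 (EtOver.prodFst U U')).hom.left.left = 𝟙 _ :=
      congrArg (fun k => k.hom.left.left) hs1
    rw [h1, ← he]
    exact (Category.assoc _ _ _).trans ((congrArg (e.hom ≫ ·) h2).trans (Category.comp_id _))
  have hae : EtOver.bcMap hi.1 a ≫ s = EtOver.bcMap hi.1 ι := by
    refine EtOver.hom_ext _ _ (Over.OverMorphism.ext ?_)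
    have : (EtOver.bcMap hi.1 a).hom.left.left ≫ s.hom.left.left =
      (EtOver.bcMap hi.1 ι).hom.left.left := by rw [ha, he]
    exact this
  refine ⟨W, a, b, ?_, ?_⟩
  · have : IsIso (EtOver.bcMap hi.1 a).hom.left.left := by rw [ha]; infer_instance
    exact isIso_of_isIso_left _
  · rw [hmapb, ← hs2, ← Category.assoc, hae]

/-- Base change of small etale sites along a closed immersion is cover dense. -/
theorem isCoverDense_bc (hX : IsAlgSpace X) : (EtOver.bc hi.1).IsCoverDense (etTop Z) where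
  is_cover E := by
    obtain ⟨U, p, hp, hps⟩ := hX.atlas
    refine (mem_etTop_iff _).2 fun x => ?_
    obtain ⟨V, h, v, hv⟩ := exists_bc_lift hi hp hps E x
    exact ⟨_, h, v, Presieve.in_coverByImage (EtOver.bc hi.1) h, hv⟩

/-- Base change of small etale sites along a closed immersion is locally full. -/
theorem isLocallyFull_bc : (EtOver.bc hi.1).IsLocallyFull (etTop Z) where
  functorPushforward_imageSieve_mem {U V} f := by
    obtain ⟨W, a, b, ha, hab⟩ := exists_almost_full hi U V f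
    have h1 : (Functor.imageSieve (EtOver.bc hi.1) f) a := ⟨b, hab.symm⟩
    have h2 := Sieve.image_mem_functorPushforward (EtOver.bc hi.1) _ h1
    have h3 : (Sieve.functorPushforward (EtOver.bc hi.1) (Functor.imageSieve (EtOver.bc hi.1) f)) =
        ⊤ := by
      rw [← Sieve.id_mem_iff_eq_top]
      have : IsIso ((EtOver.bc hi.1).map a) := ha
      have := Sieve.downward_closed _ h2 (inv ((EtOver.bc hi.1).map a))
      rwa [IsIso.inv_hom_id] at this
    rw [h3]
    exact GrothendieckTopology.top_mem _ _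

end Closed

end K599.BCClosed
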