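import Groth.Prelude.Def_AlgSp4
import Groth.Agent.AlgSp.K597.LocP
import Groth.Agent.AlgSp.K609.Points
import Groth.Agent.Ega4fib.H149.FibreTopLoc
import Mathlib.AlgebraicGeometry.Morphisms.FinitePresentation
import Mathlib.AlgebraicGeometry.Morphisms.UniversallyOpen

/-!
# Etale locally constructible subsets of algebraic spaces

* `isLocallyConstructible_of_preimage`: descent along surjective open morphisms locally of finite presentation;
* `isLocConstr_of_chart`: one chart suffices;
* `isLocConstr_preimage`: inverse images; `isLocConstr_image`: Chevalley's theorem.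
-/

set_option autoImplicit false
set_option backward.isDefEq.respectTransparency false
universe u
open CategoryTheory CategoryTheory.Limits AlgebraicGeometry Topology TopologicalSpace
open AlgSp

namespace K599.Constr

/-- Locally constructible subsets, tested on an open cover of the ambient space by (the open images of)
quasi-compact pieces. -/
theorem isLocallyConstructible_of_local {U : Scheme.{u}} (E : Set U)
    (H : ∀ x : U, ∃ (V : U.Opens) (_ : x ∈ V) (E' : Set V), IsLocallyConstructible E' ∧
      ∀ y : V, (y : U) ∈ E ↔ y ∈ E') : IsLocallyConstructible E := by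
  choose V hV E' hE' hE using H
  refine IsLocallyConstructible.of_isOpenCover (U := V) ?_ fun x => ?_
  · rw [TopologicalSpace.IsOpenCover, eq_top_iff]
    intro x _
    exact Opens.mem_iSup.2 ⟨x, hV x⟩
  · have : (Subtype.val ⁻¹' E : Set (V x)) = E' x := by
      ext y
      exact hE x y
    exact this ▸ hE' x

/-- Descent of local constructibility along a surjective open morphism locally of finite presentation. -/
theorem isLocallyConstructible_of_preimage {U' U : Scheme.{u}} (g : U' ⟶ U)
    [LocallyOfFinitePresentation g] (ho : IsOpenMap g) (hs : Function.Surjective g) (E : Set U)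
    (hE : IsLocallyConstructible (g ⁻¹' E)) : IsLocallyConstructible E := by
  have key : ∀ x : U, ∃ (O : U.Opens) (_ : x ∈ O), IsLocallyConstructible (Subtype.val ⁻¹' E : Set O) := by
    intro x
    obtain ⟨x', rfl⟩ := hs x
    obtain ⟨V, hV, hxV, -⟩ := exists_isAffineOpen_mem_and_subset (show g x' ∈ (⊤ : U.Opens) from trivial)
    obtain ⟨W, hW, hxW, hWV⟩ := exists_isAffineOpen_mem_and_subset (show x' ∈ g ⁻¹ᵁ V from hxV)
    let h : W.toScheme ⟶ V.toScheme := g.resLE V W hWV
    have hh : h ≫ V.ι = W.ι ≫ g := Scheme.Hom.resLE_comp_ι _ _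
    have : IsAffine W.toScheme := hW
    have : IsAffine V.toScheme := hV
    have : QuasiCompact h := inferInstance
    have h1 : IsLocallyConstructible (W.ι ⁻¹' (g ⁻¹' E)) :=
      hE.preimage_of_isOpenEmbedding W.ι.isOpenEmbedding
    have h2 : IsLocallyConstructible (h '' (W.ι ⁻¹' (g ⁻¹' E))) := h.isLocallyConstructible_image h1
    let O : U.Opens := ⟨g '' W, ho _ W.2⟩
    have hOV : (O : Set U) ⊆ V := by
      rintro _ ⟨w, hw, rfl⟩; exact hWV hw
    refine ⟨O, ⟨x', hxW, rfl⟩, ?_⟩
    let j : O → V := Set.inclusion hOV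
    have hj : IsOpenEmbedding j := by
      refine IsOpenEmbedding.of_comp (g := (Subtype.val : V → U)) j V.2.isOpenEmbedding_subtypeVal ?_
      exact O.2.isOpenEmbedding_subtypeVal
    have h3 := h2.preimage_of_isOpenEmbedding hj
    convert! h3 using 1
    have hval : ∀ w : W.toScheme, (show V from h w).1 = g w.1 := fun w => by
      have := congrArg (fun k => k w) (congrArg (fun k : W.toScheme ⟶ U => (k : _ → U)) hh)
      exact this
    ext y
    constructor
    · intro hy
      obtain ⟨w, hw, hwy⟩ := y.2
      refine ⟨⟨w, hw⟩, ?_, ?_⟩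
      · change g w ∈ E
        rw [hwy]; exact hy
      · apply Subtype.ext
        exact (hval ⟨w, hw⟩).trans hwy
    · rintro ⟨w, hw, hwy⟩
      change y.1 ∈ E
      have : y.1 = g w.1 := by
        rw [← hval w]
        exact (congrArg Subtype.val hwy).symm
      rw [this]; exact hw
  choose O hO hOE using key
  exact IsLocallyConstructible.of_isOpenCover (U := O) (by
    rw [TopologicalSpace.IsOpenCover, eq_top_iff]
    intro x _
    exact Opens.mem_iSup.2 ⟨x, hO x⟩) hOE

variable {S : Scheme.{u}}

/-- The subset `E` of the points of `F` is etale locally constructible. -/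
def IsLC {F : Sp S} (E : Set (Points F)) : Prop :=
  ∀ (U : Over S) (φ : (AlgSp.yon S).obj U ⟶ F), AlgSp.RepWith @Etale φ →
        Topology.IsLocallyConstructible (AlgSp.Points.ofPt φ ⁻¹' E)

open Groth.Agent.Ega4fib.H149.FibreTopLoc in
/-- The inverse image of a set which is constructible on one chart `b` is locally constructible along every
morphism from a scheme. -/
theorem isLocallyConstructible_ofPt {F : Sp S} {V : Over S} {b : (yon S).obj V ⟶ F}
    (hb : RepWith @Etale b) (hbs : RepWith @Surjective b) {E : Set (Points F)}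
    (hE : IsLocallyConstructible (Points.ofPt b ⁻¹' E)) {T : Over S} (g : (yon S).obj T ⟶ F) :
    IsLocallyConstructible (Points.ofPt g ⁻¹' E) := by
  obtain ⟨W, p, q, sq, hq⟩ := K597.exists_sq2 hb g
  have hqs : Surjective q.left := K597.repWith_prop hbs sq
  have h1 : IsLocallyConstructible (p.left ⁻¹' (Points.ofPt b ⁻¹' E)) :=
    isLocallyConstructible_preimage p.left hE
  refine isLocallyConstructible_of_preimage q.left q.left.isOpenMap hqs.surj _ ?_
  convert h1 using 1
  ext w
  have : Points.ofPt b (p.left w) = Points.ofPt g (q.left w) :=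
    (K609.Points.ofPt_eq_ofPt_iff sq _ _).2 ⟨w, rfl, rfl⟩
  change Points.ofPt g (q.left w) ∈ E ↔ Points.ofPt b (p.left w) ∈ E
  rw [this]

theorem isLC_preimage {F G : Sp S} (hG : K597.HasAtlas G) (f : F ⟶ G) {E : Set (Points G)}
    (hE : IsLC E) : IsLC (Points.map f ⁻¹' E) := by
  obtain ⟨V, b, hb, hbs⟩ := hG
  intro U φ _
  exact isLocallyConstructible_ofPt hb hbs (hE V b hb) (φ ≫ f)

/-- Chevalley's theorem. -/
theorem isLC_image {F G : Sp S} (f : F ⟶ G) (hq : IsQuasiCompactMor f)
    (hfp : LocP @LocallyOfFinitePresentation f) {E : Set (Points F)} (hE : IsLC E) :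
    IsLC (Points.map f '' E) := by
  intro U φ hφ
  -- the piece over an affine open `V` of `U`
  refine isLocallyConstructible_of_local _ fun x => ?_
  obtain ⟨V, hV, hxV, -⟩ := exists_isAffineOpen_mem_and_subset (show x ∈ (⊤ : U.left.Opens) from trivial)
  let V' : Over S := Over.mk (V.ι ≫ U.hom)
  let j : V' ⟶ U := Over.homMk V.ι rfl
  have hj : Etale j.left := inferInstanceAs (Etale V.ι)
  let ψ : (yon S).obj V' ⟶ G := (yon S).map j ≫ φ
  have hψ : RepWith @Etale ψ := K597.etale_comp (K597.etale_map j hj) hφ
  have hVc : CompactSpace V'.left := by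
    have : IsAffine V'.left := hV
    infer_instance
  have hVa : IsAffine V'.left := hV
  have hZ : IsQuasiCompactSp ((yon S).obj V') := ⟨V', 𝟙 _, repWith_id _ _, repWith_id _ _, hVc⟩
  -- the base change
  have sq := IsPullback.of_hasPullback f ψ
  obtain ⟨W, c, hc, hcs, hW⟩ := hq (IsAlgSpace.yon_obj V') hZ ψ _ _ sq
  have hfst : RepWith @Etale (pullback.fst f ψ) := K597.repWith_bc' _ sq hψ
  let k : W ⟶ V' := (yon S).preimage (c ≫ pullback.snd f ψ)
  have hk : (yon S).map k = c ≫ pullback.snd f ψ := (yon S).map_preimage _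
  let a : (yon S).obj W ⟶ F := c ≫ pullback.fst f ψ
  have ha : RepWith @Etale a := K597.etale_comp hc hfst
  have hkfp : LocallyOfFinitePresentation k.left := hfp a ψ k ha hψ (by
    rw [hk, Category.assoc, Category.assoc, sq.w])
  have : CompactSpace W.left := hW
  have : QuasiCompact k.left := inferInstance
  have h1 := hE W a ha
  have h2 := k.left.isLocallyConstructible_image h1
  refine ⟨V, hxV, _, h2, fun y => ?_⟩
  have hy : Points.ofPt φ (y : U.left) = Points.ofPt ψ y :=
    (K609.Points.ofPt_yon_map_comp j φ y).symm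
  change Points.ofPt φ (y : U.left) ∈ Points.map f '' E ↔ _
  rw [hy]
  constructor
  · rintro ⟨e, he, hey⟩
    obtain ⟨z, hz1, hz2⟩ := K609.Points.exists_of_isPullback sq e (Points.ofScheme V' y) (by
      rw [hey, ← Points.ofPt_eq_map_ofScheme])
    obtain ⟨w, rfl⟩ := K609.Points.surjective_ofPt_of_repWith_surjective hcs z
    rw [Points.map_ofPt] at hz1 hz2
    refine ⟨w, ?_, ?_⟩
    · change Points.ofPt a w ∈ E
      rw [hz1]; exact he
    · rw [← hk] at hz2
      have := congrArg (Points.toScheme V') hz2
      rwa [Points.toScheme_ofPt, Points.toScheme_ofScheme] at this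
  · rintro ⟨w, hw, rfl⟩
    refine ⟨Points.ofPt a w, hw, ?_⟩
    rw [Points.map_ofPt, ← K609.Points.ofPt_yon_map_comp k ψ w, hk, Category.assoc, Category.assoc, sq.w]

end K599.Constr
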