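import Groth.Prelude.Def_AlgSpOX2
import Mathlib.AlgebraicGeometry.Morphisms.FlatMono

/-!
# The small etale site of a sheaf: pointwise criterion for coverings, open subobjects

* `mem_etTop_iff`: a sieve covers iff it is jointly surjective on points;
* `openSub`: open subschemes of an object of the small etale site;
* `isOpenImmersion_of_mono_left`, `isIso_of_isIso_left`.
-/

set_option autoImplicit false
set_option backward.isDefEq.respectTransparency false
universe u
open CategoryTheory CategoryTheory.Limits AlgebraicGeometry Opposite
open AlgSp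

namespace K599.EtSite

variable {S : Scheme.{u}} {X : Sp S}

/-- Pointwise criterion for covering sieves of the small etale site. -/
theorem mem_etTop_iff {E : EtOver X} (R : Sieve E) :
    R ∈ etTop X E ↔ ∀ x : ↥E.obj.left.left, ∃ (V : EtOver X) (f : V ⟶ E) (v : ↥V.obj.left.left),
      R f ∧ f.hom.left.left v = x := by
  constructor
  · intro h x
    unfold etTop at h
    rw [Precoverage.mem_toGrothendieck_iff_of_isStableUnderComposition] at h
    obtain ⟨R', hR', hle⟩ := h
    obtain ⟨ι, Z, g, rfl⟩ := R'.exists_eq_ofArrows
    obtain ⟨i, z, hz⟩ := (ofArrows_mem_etPre_iff Z g).1 hR' x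
    exact ⟨Z i, g i, z, hle _ _ ⟨i⟩, hz⟩
  · intro h
    choose V f v hf hv using h
    refine GrothendieckTopology.superset_covering _ ?_ (ofArrows_mem_etTop V f fun x => ⟨x, v x, hv x⟩)
    intro W g hg
    rw [Sieve.mem_ofArrows_iff] at hg
    obtain ⟨i, a, rfl⟩ := hg
    exact R.downward_closed (hf i) a

/-- The open subscheme `O` of (the scheme of) an object of the small etale site, as an object. -/
noncomputable def openSub (P : EtOver X) (O : P.obj.left.left.Opens) : EtOver X :=
  EtOver.mk (U := Over.mk (O.ι ≫ P.obj.left.hom))
    ((yon S).map (Over.homMk O.ι rfl : Over.mk (O.ι ≫ P.obj.left.hom) ⟶ P.obj.left) ≫ P.obj.hom)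
    ((repWith_isMultiplicative (S := S) @Etale).comp_mem _ _
      ((repWith_yon_map_iff _ _).2 (show Etale O.ι from inferInstance)) P.property)

/-- The inclusion of the open subscheme. -/
noncomputable def openSubι (P : EtOver X) (O : P.obj.left.left.Opens) : openSub P O ⟶ P :=
  EtOver.homMk (Over.homMk O.ι rfl : Over.mk (O.ι ≫ P.obj.left.hom) ⟶ P.obj.left) rfl

theorem openSub_left (P : EtOver X) (O : P.obj.left.left.Opens) :
    (openSub P O).obj.left.left = (O : Scheme.{u}) := rfl

theorem openSubι_left (P : EtOver X) (O : P.obj.left.left.Opens) :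
    (openSubι P O).hom.left.left = O.ι := rfl

/-- A monomorphism of schemes in the small etale site is an open immersion. -/
theorem isOpenImmersion_of_mono_left {U V : EtOver X} (s : U ⟶ V) [Mono s.hom.left.left] :
    IsOpenImmersion s.hom.left.left := by
  have : Etale s.hom.left.left := EtOver.etale_left s
  exact IsOpenImmersion.of_flat_of_mono _

/-- A morphism of the small etale site is an isomorphism if the underlying morphism of schemes is. -/
theorem isIso_of_isIso_left {U V : EtOver X} (s : U ⟶ V) [h : IsIso s.hom.left.left] :
    IsIso s := by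
  have h2 : IsIso ((EtOver.toScheme X).map s) := h
  exact isIso_of_reflects_iso s (EtOver.toScheme X)

end K599.EtSite
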