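import Groth.Prelude.Def_AlgSpOX2
import Groth.Prelude.Def_AlgSpSub
import Groth.Agent.AlgSp.K599.EtSite
import Groth.Agent.AlgSp.K600.Basic
import Groth.Agent.AlgSp.K598.Dens
import Mathlib.CategoryTheory.ConcreteCategory.EpiMono
import Mathlib.CategoryTheory.Adjunction.Evaluation
import Mathlib.Algebra.Category.Ring.Limits

/-!
# Scheme theoretic density and the comparison map of structure sheaves

* `mono_bcRingHom_iff`: `O_Y ⟶ f_* O_X` is a monomorphism of sheaves of rings iff it is injective on sections.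
* `isSchDense_iff_mono` (S9986).
-/

set_option autoImplicit false
set_option backward.isDefEq.respectTransparency false
set_option backward.isDefEq.respectTransparency.types false
universe u
open CategoryTheory CategoryTheory.Limits AlgebraicGeometry Opposite
open AlgSp

namespace K599.DensMono

theorem mono_iff_injective {A B : RingCat.{u}} (f : A ⟶ B) : Mono f ↔ Function.Injective f.hom := by
  have h : PreservesLimits (forget RingCat.{u}) := inferInstance
  exact ConcreteCategory.mono_iff_injective_of_preservesPullback f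

variable {S : Scheme.{u}} {X Y : Sp S} {f : X ⟶ Y}

theorem mono_bcRingHom_iff (hf : Representable f) :
    Mono (bcRingHom hf) ↔ ∀ E : EtOver Y, Function.Injective (hf.snd E.obj.hom).left.appTop.hom := by
  have key : ∀ E : EtOver Y, Mono ((bcRingHom hf).hom.app (op E)) ↔
      Function.Injective (hf.snd E.obj.hom).left.appTop.hom := by
    intro E
    rw [mono_iff_injective]
    constructor
    · intro h a b hab
      have := @h ⟨a⟩ ⟨b⟩ (congrArg ULift.up hab)
      exact congrArg ULift.down this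
    · rintro h ⟨a⟩ ⟨b⟩ hab
      exact congrArg ULift.up (h (congrArg ULift.down hab))
  constructor
  · intro h E
    rw [← key]
    have h1 : Mono ((sheafToPresheaf _ _).map (bcRingHom hf)) := inferInstance
    have h2 : Mono (bcRingHom hf).hom := h1
    exact (NatTrans.mono_iff_mono_app _).1 h2 _
  · intro h
    have h2 : Mono (bcRingHom hf).hom := by
      rw [NatTrans.mono_iff_mono_app]
      intro E
      exact (key E.unop).2 (h _)
    exact (sheafToPresheaf _ _).mono_of_mono_map h2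

/-- Sections killed on a schematically dense open vanish. -/
theorem injective_ι_of_dense {V : Scheme.{u}} {W : V.Opens} (h : CInt.IsSchematicallyDense W) :
    Function.Injective W.ι.appTop.hom := by
  intro a b hab
  refine h ⊤ ?_
  have e1 : V.presheaf.map (homOfLE (inf_le_left : ⊤ ⊓ W ≤ (⊤ : V.Opens))).op ≫ W.ι.appLE (⊤ ⊓ W) ⊤
      (fun x _ => ⟨trivial, x.2⟩) = W.ι.appLE ⊤ ⊤ le_top := Scheme.Hom.map_appLE _ _ _
  have e2 : W.ι.appLE ⊤ ⊤ le_top = W.ι.appTop := (Scheme.Hom.app_eq_appLE _).symm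
  have h3 : IsIso (W.ι.appLE (⊤ ⊓ W) ⊤ (fun x _ => ⟨trivial, x.2⟩)) := by
    have h4 : IsIso (W.ι.app (⊤ ⊓ W)) := Scheme.Hom.isIso_app W.ι _ (by simp)
    have h5 : W.ι ⁻¹ᵁ (⊤ ⊓ W) = ⊤ := by ext x; simp
    rw [Scheme.Hom.appLE]
    have : IsIso (homOfLE (le_of_eq h5.symm)) := by
      refine ⟨homOfLE (le_of_eq h5), rfl, rfl⟩
    infer_instance
  have h6 : Function.Injective (W.ι.appLE (⊤ ⊓ W) ⊤ (fun x _ => ⟨trivial, x.2⟩)).hom :=
    (ConcreteCategory.bijective_of_isIso _).injective
  apply h6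
  have h7 := congrArg (fun z => z.hom a) (e1.trans e2)
  have h8 := congrArg (fun z => z.hom b) (e1.trans e2)
  exact h7.trans (hab.trans h8.symm)

/-- Schematic density from injectivity of pullbacks to the restrictions over opens. -/
theorem dense_of_injective {V : Scheme.{u}} {W : V.Opens}
    (h : ∀ V' : V.Opens, ∃ (B : Scheme.{u}) (g : B ⟶ V') (l : B ⟶ W), g ≫ V'.ι = l ≫ W.ι ∧
      Function.Injective g.appTop.hom) : CInt.IsSchematicallyDense W := by
  intro V' a b hab
  obtain ⟨B, g, l, hgl, hinj⟩ := h V'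
  have hle : (⊤ : B.Opens) ≤ (g ≫ V'.ι) ⁻¹ᵁ (V' ⊓ W) := by
    intro x _
    refine ⟨?_, ?_⟩
    · exact (g x).2
    · change (g ≫ V'.ι) x ∈ W
      rw [hgl]
      exact (l x).2
  have e1 : V.presheaf.map (homOfLE (inf_le_left : V' ⊓ W ≤ V')).op ≫ (g ≫ V'.ι).appLE (V' ⊓ W) ⊤ hle =
      (g ≫ V'.ι).appLE V' ⊤ (fun x _ => (g x).2) := Scheme.Hom.map_appLE _ _ _
  have e2 : V'.ι.appLE V' ⊤ (fun x _ => x.2) ≫ g.appLE ⊤ ⊤ le_top = (g ≫ V'.ι).appLE V' ⊤ (fun x _ => (g x).2) :=
    Scheme.Hom.appLE_comp_appLE _ _ _ _ _ _ _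
  have e3 : g.appLE ⊤ ⊤ le_top = g.appTop := (Scheme.Hom.app_eq_appLE _).symm
  have h3 : IsIso (V'.ι.appLE V' ⊤ (fun x _ => x.2)) := by
    have h4 : IsIso (V'.ι.app V') := Scheme.Hom.isIso_app V'.ι _ (by simp)
    have h5 : V'.ι ⁻¹ᵁ V' = ⊤ := by ext x; simp
    rw [Scheme.Hom.appLE]
    have : IsIso (homOfLE (le_of_eq h5.symm)) := by
      refine ⟨homOfLE (le_of_eq h5), rfl, rfl⟩
    infer_instance
  have h6 : Function.Injective (V'.ι.appLE V' ⊤ (fun x _ => x.2)).hom :=
    (ConcreteCategory.bijective_of_isIso _).injective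
  apply h6
  apply hinj
  have e4 := e1.trans (e2.symm.trans (congrArg (fun z => V'.ι.appLE V' ⊤ (fun x _ => x.2) ≫ z) e3))
  have h7 := congrArg (fun z => z.hom a) e4
  have h8 := congrArg (fun z => z.hom b) e4
  have h9 : ((g ≫ V'.ι).appLE (V' ⊓ W) ⊤ hle).hom ((V.presheaf.map (homOfLE (inf_le_left : V' ⊓ W ≤ V')).op).hom a) =
      ((g ≫ V'.ι).appLE (V' ⊓ W) ⊤ hle).hom ((V.presheaf.map (homOfLE (inf_le_left : V' ⊓ W ≤ V')).op).hom b) :=
    congrArg _ hab
  exact h7.symm.trans (h9.trans h8)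

theorem isSchDense_iff_mono {U : Sp S} (hX : IsAlgSpace X) {j : U ⟶ X} (hj : RepWith @IsOpenImmersion j) :
    IsSchDense j ↔ Mono (bcRingHom hj.1) := by
  rw [mono_bcRingHom_iff]
  constructor
  · intro h E
    obtain ⟨W, fst, sq⟩ := K598.Dens.exists_isPre hj E.obj.hom
    have hd : CInt.IsSchematicallyDense W :=
      K598.Dens.dense_of_isSchDense h (K598.Charts.repWith_flat_of_etale E.property)
        (K598.Charts.repWith_lfp_of_etale E.property) ⟨fst, sq⟩
    obtain ⟨e, he, -⟩ := K600.Basic.exists_iso_of_isPullback (hj.1.isPullback E.obj.hom) sq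
    have hel : e.hom.left ≫ W.ι = (hj.1.snd E.obj.hom).left := congrArg (fun z => z.left) he
    rw [← hel, Scheme.Hom.comp_appTop, CommRingCat.hom_comp]
    have he' : IsIso e.hom.left := inferInstance
    have hinj : Function.Injective e.hom.left.appTop.hom :=
      (ConcreteCategory.bijective_of_isIso e.hom.left.appTop).injective
    exact hinj.comp (injective_ι_of_dense hd)
  · intro h
    obtain ⟨V, p, hp, hps⟩ := hX.atlas
    obtain ⟨W, fst, sq⟩ := K598.Dens.exists_isPre hj p
    refine ⟨hj, V, p, W, fst, hp, hps, sq, dense_of_injective fun V' => ?_⟩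
    let E : EtOver X := EtOver.mk p hp
    let E' : EtOver X := EtSite.openSub E V'
    obtain ⟨l, -, hl⟩ := K600.Basic.exists_lift sq (hj.1.fst E'.obj.hom)
      (hj.1.snd E'.obj.hom ≫ (EtSite.openSubι E V').hom.left) (by
        rw [Functor.map_comp, Category.assoc]
        exact hj.1.w E'.obj.hom)
    refine ⟨_, (hj.1.snd E'.obj.hom).left, l.left, ?_, h E'⟩
    exact (congrArg (fun z => z.left) hl).symm

end K599.DensMono
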