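import Groth.Agent.AlgSp.K599.FTPoint
import Groth.Agent.AlgSp.K619.Residual
import Groth.Agent.FtPts.K585.Basic

/-!
# Finite type points and monomorphisms from one-point spaces (S9980)
-/

set_option autoImplicit false
set_option backward.isDefEq.respectTransparency false
set_option backward.isDefEq.respectTransparency.types false
universe u
open CategoryTheory CategoryTheory.Limits AlgebraicGeometry
open AlgSp K599.FTPoint

namespace K599.FTMono

theorem lft_residue {U : Scheme.{u}} {k : Type u} [Field k] (g : Spec (CommRingCat.of k) ⟶ U)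
    [LocallyOfFiniteType g] : LocallyOfFiniteType (U.fromSpecResidueField (g (IsLocalRing.closedPoint k))) := by
  obtain ⟨V, hV, hs, h⟩ := K585.FtPtsBasic.exists_isClosed_of_locallyOfFiniteType U
    (CommRingCat.of k) (Field.toIsField k) g (IsLocalRing.closedPoint k)
  exact K585.FtPtsBasic.locallyOfFiniteType_of_isClosed U _ V hs h

variable {S : Scheme.{u}} {X Y : Sp S}

/-- A finite type point comes from a finite type point of an etale chart. -/
theorem exists_chart (hX : IsAlgSpace X) {x : Points X} (hx : IsFT x) :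
    ∃ (U : Over S) (a : (yon S).obj U ⟶ X) (u : ↥U.left), RepWith @Etale a ∧
      LocallyOfFiniteType (U.left.fromSpecResidueField u) ∧ Points.ofPt a u = x := by
  obtain ⟨U, a, ha, has⟩ := hX.atlas
  obtain ⟨k, _, str, ξ, hξ, rfl⟩ := hx
  obtain ⟨u, hu⟩ := K609.Points.surjective_ofPt_of_repWith_surjective has
    (Points.ofPt ξ (IsLocalRing.closedPoint k))
  have hξR : Representable ξ := hX.representable_from_yon _
  have hξ' : RepWith @LocallyOfFiniteType ξ := K597.repWith_of_locP K597.etLoc_lft hX.atlas hξR hξ
  obtain ⟨W, p, q, sq, hq⟩ := K597.exists_sq2 ha ξ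
  have hp : LocallyOfFiniteType p.left := K597.repWith_prop' hξ' sq
  obtain ⟨w, hw, -⟩ := (K609.Points.ofPt_eq_ofPt_iff sq u (IsLocalRing.closedPoint k)).1 hu
  obtain ⟨k', _, g, hg, -⟩ := exists_ft_point W.left Set.univ isOpen_univ.isLocallyClosed ⟨w, trivial⟩
  refine ⟨U, a, p.left (g (IsLocalRing.closedPoint k')), ha, ?_, ?_⟩
  · have := lft_residue (g ≫ p.left)
    rwa [Scheme.Hom.comp_apply] at this
  · exact (K609.Points.ofPt_eq_ofPt_iff sq _ _).2 ⟨_, rfl,
      (inferInstance : Subsingleton (Spec (CommRingCat.of k))).elim _ _⟩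

/-- The residual space of a finite type point is locally of finite type. -/
theorem exists_mono (hX : IsAlgSpace X) {x : Points X} (hx : IsFT x) :
    ∃ (Z : Sp S) (_ : IsAlgSpace Z) (f : Z ⟶ X) (k : Type u) (_ : Field k)
        (str : Spec (CommRingCat.of k) ⟶ S)
        (z : (yon S).obj (Over.mk str) ⟶ Z), RepWith @Etale z ∧ RepWith @Surjective z ∧
        LocP @LocallyOfFiniteType f ∧ Mono f ∧ Points.ofPt (z ≫ f) (IsLocalRing.closedPoint k) = x := by
  obtain ⟨U, a, u, ha, hu, rfl⟩ := exists_chart hX hx
  let q : Over.mk (U.left.fromSpecResidueField u ≫ U.hom) ⟶ U := K619.Singleton.ptHom u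
  have hq : Mono q := by
    have : Mono q.left := inferInstanceAs (Mono (U.left.fromSpecResidueField u))
    exact Over.mono_of_mono_left q
  obtain ⟨Z, i, e, hZ, hm, hei, he, hs⟩ := K619.Residual.exists_image hX ((yon S).map q ≫ a)
    (fun R t s hR => K619.Residual.etale_proj (k := U.left.residueField u) q ha hR)
  refine ⟨Z, hZ, i, U.left.residueField u, inferInstance, U.left.fromSpecResidueField u ≫ U.hom, e, he, hs,
    ?_, hm, ?_⟩
  · refine K597.locP_of_source K597.etLoc_lft (IsAlgSpace.yon_obj _).atlas hX.atlas he hs ?_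
    rw [hei]
    exact locP_of_chart ha q hu
  · rw [hei, K609.Points.ofPt_yon_map_comp]
    congr 1
    exact Scheme.fromSpecResidueField_apply _ _

theorem unique_points_yon {k : Type u} [Field k] (str : Spec (CommRingCat.of k) ⟶ S) :
    Nonempty (Unique (Points ((yon S).obj (Over.mk str)))) := by
  have : Unique (Spec (CommRingCat.of k)) := inferInstanceAs (Unique (PrimeSpectrum k))
  exact ⟨Equiv.unique (β := Spec (CommRingCat.of k)) (Points.schemeEquiv (Over.mk str)).symm⟩

end K599.FTMono
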