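import Groth.Prelude.Def_AlgSp4
import Groth.Agent.AlgSp.K597.LocP
import Groth.Agent.AlgSp.K597.EtLoc
import Groth.Agent.AlgSp.K609.Points
import Mathlib.AlgebraicGeometry.Morphisms.ClosedImmersion
import Mathlib.AlgebraicGeometry.Morphisms.FiniteType

/-!
# Finite type points of algebraic spaces

* `exists_ft_point`: every nonempty locally closed subset of a scheme contains the image of a morphism
  locally of finite type from the spectrum of a field;
* `IsFT x`: the point `x` of a sheaf is a finite type point;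
* `isFT_of_chart`, `exists_isFT_of_locallyClosed`, `exists_isFT_lift`.
-/

set_option autoImplicit false
set_option backward.isDefEq.respectTransparency false
universe u
open CategoryTheory CategoryTheory.Limits AlgebraicGeometry
open AlgSp

namespace K599.FTPoint

/-- Every nonempty locally closed subset of a scheme contains the image of a morphism locally of finite type
from the spectrum of a field. -/
theorem exists_ft_point (U : Scheme.{u}) (T : Set U) (hT : IsLocallyClosed T) (hne : T.Nonempty) :
    ∃ (k : Type u) (_ : Field k) (g : Spec (CommRingCat.of k) ⟶ U),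
      LocallyOfFiniteType g ∧ g (IsLocalRing.closedPoint k) ∈ T := by
  obtain ⟨O, C, hO, hC, rfl⟩ := hT
  obtain ⟨t, htO, htC⟩ := hne
  obtain ⟨V, hV, htV, hVO⟩ : ∃ V : U.Opens, IsAffineOpen V ∧ t ∈ V ∧ (V : Set U) ⊆ O := by
    obtain ⟨_, ⟨V, hV, rfl⟩, htV, hVO⟩ := U.isBasis_affineOpens.exists_subset_of_mem_open htO hO
    exact ⟨V, hV, htV, hVO⟩
  have : CompactSpace V := isCompact_iff_compactSpace.1 hV.isCompact
  obtain ⟨x, hx, hxc⟩ := IsClosed.exists_closed_singleton (S := (V.ι ⁻¹' C : Set V))
    (hC.preimage V.ι.continuous) ⟨⟨t, htV⟩, htC⟩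
  have hcl : IsClosedImmersion ((V : Scheme.{u}).fromSpecResidueField x) :=
    isClosed_singleton_iff_isClosedImmersion.1 hxc
  refine ⟨(V : Scheme.{u}).residueField x, inferInstance,
    (V : Scheme.{u}).fromSpecResidueField x ≫ V.ι, ?_, ?_⟩
  · exact (inferInstance : LocallyOfFiniteType ((V : Scheme.{u}).fromSpecResidueField x ≫ V.ι))
  · have e : (V : Scheme.{u}).fromSpecResidueField x
        (IsLocalRing.closedPoint ((V : Scheme.{u}).residueField x)) = x :=
      Scheme.fromSpecResidueField_apply _ _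
    rw [Scheme.Hom.comp_apply]
    refine (congrArg (fun z => V.ι z ∈ O ∩ C) e).mpr ?_
    exact ⟨hVO x.2, hx⟩

variable {S : Scheme.{u}}

/-- `x` is a finite type point of the sheaf `F`. -/
def IsFT {F : Sp S} (x : Points F) : Prop :=
  ∃ (k : Type u) (_ : Field k) (str : Spec (CommRingCat.of k) ⟶ S) (ξ : (AlgSp.yon S).obj (Over.mk str) ⟶ F),
    AlgSp.LocP @LocallyOfFiniteType ξ ∧ AlgSp.Points.ofPt ξ (IsLocalRing.closedPoint k) = x

theorem locP_of_chart {F : Sp S} {U : Over S} {a : (yon S).obj U ⟶ F} (ha : RepWith @Etale a)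
    {T : Over S} (g : T ⟶ U) (hg : LocallyOfFiniteType g.left) :
    LocP @LocallyOfFiniteType ((yon S).map g ≫ a) :=
  K597.locP_of_chart K597.etLoc_lft _ (𝟙 _) a g (repWith_id _ _) (repWith_id _ _) ha (by simp) hg

/-- The point of `F` below a point of an etale chart which is of finite type. -/
theorem isFT_of_chart {F : Sp S} {U : Over S} {a : (yon S).obj U ⟶ F} (ha : RepWith @Etale a)
    {k : Type u} [Field k] (g : Spec (CommRingCat.of k) ⟶ U.left) (hg : LocallyOfFiniteType g) :
    IsFT (Points.ofPt a (g (IsLocalRing.closedPoint k))) := by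
  let g' : Over.mk (g ≫ U.hom) ⟶ U := Over.homMk g rfl
  exact ⟨k, inferInstance, g ≫ U.hom, (yon S).map g' ≫ a, locP_of_chart ha g' hg,
    K609.Points.ofPt_yon_map_comp g' a _⟩

/-- Every nonempty locally closed subset of the points contains a finite type point. -/
theorem exists_isFT_of_locallyClosed {F : Sp S} (hF : K597.HasAtlas F) (T : Set (Points F))
    (hT : IsLocallyClosed T) (hne : T.Nonempty) : ∃ x ∈ T, IsFT x := by
  obtain ⟨U, a, ha, has⟩ := hF
  obtain ⟨x, hx⟩ := hne
  obtain ⟨u, rfl⟩ := K609.Points.surjective_ofPt_of_repWith_surjective has x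
  obtain ⟨k, _, g, hg, hgT⟩ := exists_ft_point U.left (Points.ofPt a ⁻¹' T)
    (hT.preimage (Points.continuous_ofPt a)) ⟨u, hx⟩
  exact ⟨_, hgT, isFT_of_chart ha g hg⟩

/-- Finite type points lift along morphisms locally of finite type to any point of the fibre... more
precisely: if `f : X ⟶ Y` is locally of finite type and `x` is a point of `X` over a finite type point of
`Y`, there is a finite type point of `X` over it. -/
theorem exists_isFT_lift {X Y : Sp S} (hX : IsAlgSpace X) (hY : IsAlgSpace Y) (f : X ⟶ Y)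
    (hf : LocP @LocallyOfFiniteType f) (x : Points X) (hy : IsFT (Points.map f x)) :
    ∃ x' : Points X, Points.map f x' = Points.map f x ∧ IsFT x' := by
  obtain ⟨U, a, ha, has⟩ := hX.atlas
  obtain ⟨u, rfl⟩ := K609.Points.surjective_ofPt_of_repWith_surjective has x
  rw [Points.map_ofPt] at hy ⊢
  obtain ⟨k, _, str, ξ, hξ, hξy⟩ := hy
  have hcR : Representable (a ≫ f) := hY.representable_from_yon _
  have hξR : Representable ξ := hY.representable_from_yon _
  have hc : RepWith @LocallyOfFiniteType (a ≫ f) :=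
    K597.repWith_of_locP K597.etLoc_lft hY.atlas hcR (K597.locP_precomp ha hf)
  have hξ' : RepWith @LocallyOfFiniteType ξ := K597.repWith_of_locP K597.etLoc_lft hY.atlas hξR hξ
  obtain ⟨W, p, q, sq, hq⟩ := K597.exists_sq2 hc ξ
  have hp : LocallyOfFiniteType p.left := K597.repWith_prop' hξ' sq
  obtain ⟨w, hw, -⟩ := (K609.Points.ofPt_eq_ofPt_iff sq u (IsLocalRing.closedPoint k)).1 hξy.symm
  obtain ⟨k', _, g, hg, -⟩ := exists_ft_point W.left Set.univ isOpen_univ.isLocallyClosed ⟨w, trivial⟩
  refine ⟨_, ?_, isFT_of_chart ha (g ≫ p.left) (inferInstance)⟩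
  rw [Points.map_ofPt, ← hξy, Scheme.Hom.comp_apply]
  exact (K609.Points.ofPt_eq_ofPt_iff sq _ _).2 ⟨_, rfl,
    (inferInstance : Subsingleton (Spec (CommRingCat.of k))).elim _ _⟩

end K599.FTPoint
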