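import Groth.Agent.AlgSp.K644.Chart
import Groth.Agent.AlgSp.K644.Exact

/-!
# The largest quasi-coherent submodule (S9992)
-/

set_option autoImplicit false
universe u v w
open CategoryTheory CategoryTheory.Limits AlgebraicGeometry Opposite
open AlgSp K644.Site K644.Psh K644.Exact K644.EtSite K644.QCoh

namespace K599.LargestQC

section Abelian

variable {C : Type w} [Category.{v} C] [Abelian C] {G F K H : C} (ι : G ⟶ F) (Φ : K ⟶ G)

theorem comp_eq_zero (j : H ⟶ K) (φ : H ⟶ G) (h : j ≫ Φ = φ) :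
    (φ ≫ ι) ≫ cokernel.π (Φ ≫ ι) = 0 := by
  subst h
  rw [Category.assoc, Category.assoc, ← Category.assoc Φ, cokernel.condition, comp_zero]

theorem exists_mono [Mono ι] : ∃ κ : kernel (cokernel.π (Φ ≫ ι)) ⟶ G, Mono κ ∧
    κ ≫ ι = kernel.ι (cokernel.π (Φ ≫ ι)) := by
  have hle : kernel.ι (cokernel.π (Φ ≫ ι)) ≫ cokernel.π ι = 0 := by
    have h1 : (Φ ≫ ι) ≫ cokernel.π ι = 0 := by rw [Category.assoc, cokernel.condition, comp_zero]
    have h2 : cokernel.π (Φ ≫ ι) ≫ cokernel.desc (Φ ≫ ι) (cokernel.π ι) h1 = cokernel.π ι :=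
      cokernel.π_desc _ _ _
    rw [← h2, ← Category.assoc, kernel.condition, zero_comp]
  have hκ := Abelian.monoLift_comp ι (kernel.ι _) hle
  refine ⟨Abelian.monoLift ι (kernel.ι _) hle, ?_, hκ⟩
  have : Mono (Abelian.monoLift ι (kernel.ι _) hle ≫ ι) := by rw [hκ]; infer_instance
  exact mono_of_mono _ ι

omit [Abelian C] in
theorem bijective_of_forall {G' : C} {κ : G' ⟶ G} [Mono κ] (h : ∀ ψ : H ⟶ G, ∃ φ : H ⟶ G', φ ≫ κ = ψ) :
    Function.Bijective (fun φ : H ⟶ G' => φ ≫ κ) :=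
  ⟨fun _ _ hab => (cancel_mono κ).1 hab, h⟩

theorem exists_lift [Mono ι] {κ : kernel (cokernel.π (Φ ≫ ι)) ⟶ G}
    (hκ : κ ≫ ι = kernel.ι (cokernel.π (Φ ≫ ι))) (ψ : H ⟶ G) (hz : (ψ ≫ ι) ≫ cokernel.π (Φ ≫ ι) = 0) :
    ∃ φ : H ⟶ kernel (cokernel.π (Φ ≫ ι)), φ ≫ κ = ψ := by
  refine ⟨kernel.lift _ (ψ ≫ ι) hz, ?_⟩
  rw [← cancel_mono ι, Category.assoc, hκ, kernel.lift_ι]

end Abelian

variable {S : Scheme.{u}} {X : Sp S}

theorem qcoh_iff (M : ModEt X) : M.IsQuasicoherent ↔ IsQC (EtOver.toScheme X) M.val :=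
  isQuasicoherent_iff (EtOver.toScheme X) M

theorem exists_largest (F G : ModEt X) [hF : F.IsQuasicoherent] (ι : G ⟶ F) [Mono ι] :
    ∃ (G' : ModEt X) (κ : G' ⟶ G), Mono κ ∧ G'.IsQuasicoherent ∧
      ∀ H : ModEt X, H.IsQuasicoherent → Function.Bijective (fun φ : H ⟶ G' => φ ≫ κ) := by
  let P : (Σ E : EtOver X, sec F E) → Prop := fun p => ∃ (H : ModEt X) (_ : H.IsQuasicoherent)
    (φ : H ⟶ G) (h : sec H p.1), smap (EtOver.toScheme X) (φ ≫ ι) p.1 h = p.2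
  let I : Type (u + 1) := {p // P p}
  choose H hH φ h hφ using fun i : I => i.2
  have hc : IsColimit (Cofan.mk (∐ H) (Sigma.ι H)) := coproductIsCoproduct H
  obtain ⟨Φ, hΦ⟩ : ∃ Φ : ∐ H ⟶ G, ∀ i, Sigma.ι H i ≫ Φ = φ i := ⟨Sigma.desc φ, Sigma.ι_desc φ⟩
  have hK : IsQC (EtOver.toScheme X) (∐ H).val :=
    K644.Colim.isQC_of_isColimit hc fun i => (qcoh_iff _).1 (hH i.as)
  have hFq : IsQC (EtOver.toScheme X) F.val := (qcoh_iff F).1 hF
  have hCq : IsQC (EtOver.toScheme X) (cokernel (Φ ≫ ι)).val :=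
    isQC_cokernel hK hFq (Φ ≫ ι) (cokernel.π _) (cokernel.condition _) (cokernelIsCokernel _)
  have hGq : IsQC (EtOver.toScheme X) (kernel (cokernel.π (Φ ≫ ι))).val :=
    isQC_kernel hFq hCq (kernel.ι _) (cokernel.π (Φ ≫ ι)) (kernel.condition _) (kernelIsKernel _)
  obtain ⟨κ, hmκ, hκ⟩ := exists_mono ι Φ
  refine ⟨kernel (cokernel.π (Φ ≫ ι)), κ, hmκ, (qcoh_iff _).2 hGq, fun Q hQ =>
    bijective_of_forall fun ψ => exists_lift ι Φ hκ ψ ?_⟩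
  refine hom_ext_affine (T := EtOver.toScheme X) _ _ fun E hE x => ?_
  let i : I := ⟨⟨E, smap (EtOver.toScheme X) (ψ ≫ ι) E x⟩, Q, hQ, ψ, x, rfl⟩
  have h1 : smap (EtOver.toScheme X) (φ i ≫ ι) E (h i) = smap (EtOver.toScheme X) (ψ ≫ ι) E x := hφ i
  have h2 : (φ i ≫ ι) ≫ cokernel.π (Φ ≫ ι) = 0 := comp_eq_zero ι Φ _ (φ i) (hΦ i)
  have h3 := congrArg (fun m => smap (EtOver.toScheme X) m E (h i)) h2
  exact (congrArg (smap (EtOver.toScheme X) (cokernel.π (Φ ≫ ι)) E) h1).symm.trans h3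

end K599.LargestQC
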