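import Groth.Agent.AlgSp.K616.NearDim
import Groth.Agent.AlgSp.K597.EtLoc
import Groth.Agent.AlgSp.K610.Sub

/-!
# Properties near a point and open subspaces

* `zarSource_of_listed`: the listed properties are Zariski local on the source.
* `exists_open_iff`: `f` has `P` near `x` iff its restriction to an open subspace containing `x` has `P` (S9993).
-/

set_option autoImplicit false
universe u
open CategoryTheory CategoryTheory.Limits AlgebraicGeometry Opposite
open AlgSp

namespace K599.Listed

theorem zarSource_of_listed {P : MorphismProperty Scheme.{u}} (h : K597.IsListed P) :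
    IsZariskiLocalAtSource P := by
  rcases (K597.isListed_iff P).1 h with rfl | rfl | rfl | rfl | rfl | rfl | rfl
  exacts [inferInstance, inferInstance, inferInstance, inferInstance, inferInstance,
    K597.zarSource_inf _ _, K597.zarSource_inf _ _]

variable {S : Scheme.{u}}

theorem etale_of_open {F G : Sp S} {j : F ⟶ G} (hj : RepWith @IsOpenImmersion j) : RepWith @Etale j :=
  ⟨hj.1, fun _ _ g fst snd sq => by
    have : IsOpenImmersion snd.left := hj.2 g fst snd sq
    exact (inferInstance : Etale snd.left)⟩

theorem exists_open_iff {P : MorphismProperty Scheme.{u}} (hP : K597.EtLoc P) [IsZariskiLocalAtSource P]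
    {X Y : Space S} (f : X ⟶ Y) (x : Points X.obj) :
    HasAtMor (K616.Near.Near P) f.hom x ↔
      ∃ (X' : Space S) (j : X' ⟶ X), RepWith @IsOpenImmersion j.hom ∧
        x ∈ Set.range (Points.map j.hom) ∧ LocP P (j ≫ f).hom := by
  constructor
  · intro h
    obtain ⟨X', j, hj, hr⟩ := K610.Sub.exists_open_subspace X _ (K616.Near.isOpen_near P f.hom)
    refine ⟨X', j, hj, by rw [hr]; exact h, ?_⟩
    rw [K616.Near.locP_iff_near hP X'.2 Y.2]
    intro x'
    have := (K616.NearDim.hasAtMor_precomp (K616.Near.etInvOn_near hP) X'.2 Y.2 (etale_of_open hj)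
      (K616.Inv.locP_top f.hom) x').2
      (by have : Points.map j.hom x' ∈ Set.range (Points.map j.hom) := ⟨_, rfl⟩
          rwa [hr] at this)
    exact this
  · rintro ⟨X', j, hj, ⟨x', rfl⟩, h⟩
    have h1 := (K616.Near.locP_iff_near hP X'.2 Y.2 _).1 h x'
    exact (K616.NearDim.hasAtMor_precomp (K616.Near.etInvOn_near hP) X'.2 Y.2 (etale_of_open hj)
      (K616.Inv.locP_top f.hom) x').1 h1

end K599.Listed
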