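import Mathlib.Algebra.Category.ModuleCat.Sheaf.PushforwardContinuous
import Mathlib.CategoryTheory.Sites.DenseSubsite.Basic
import Mathlib.CategoryTheory.Sites.LocallySurjective

/-!
# Full faithfulness of the pushforward of modules

Along a continuous, cover dense, locally full functor `F` and a locally surjective map of sheaves of
rings `S ⟶ F_* R`, the pushforward of sheaves of modules is fully faithful
(`faithful_pushforward`, `full_pushforward`).
-/

set_option autoImplicit false
universe v v₁ v₂ u₁ u₂ u

open CategoryTheory Functor Limits Opposite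

namespace K599.ModFF

variable {C : Type u₁} [Category.{v₁} C] {D : Type u₂} [Category.{v₂} D]
  {J : GrothendieckTopology C} {K : GrothendieckTopology D} {F : C ⥤ D}

/-- Sections of a module over a cover dense subcategory determine sections. -/
theorem ext_of_dense [F.IsCoverDense K] {R : Sheaf K RingCat.{u}} (N : SheafOfModules.{v} R) (X : D)
    {s t : N.val.obj (op X)}
    (h : ∀ ⦃Y : C⦄ (f : F.obj Y ⟶ X), N.val.map f.op s = N.val.map f.op t) : s = t :=
  Functor.IsCoverDense.ext F ((sheafCompose K (CategoryTheory.forget AddCommGrpCat.{v})).obj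
    ⟨N.val.presheaf, N.isSheaf⟩) X h

/-- Sections of a module are determined on a covering sieve. -/
theorem ext_of_cover {R : Sheaf K RingCat.{u}} (N : SheafOfModules.{v} R) {X : D}
    {T : Sieve X} (hT : T ∈ K X) {s t : N.val.obj (op X)}
    (h : ∀ ⦃Y : D⦄ (f : Y ⟶ X), T f → N.val.map f.op s = N.val.map f.op t) : s = t :=
  (((isSheaf_iff_isSheaf_of_type _ _).1 ((sheafCompose K (CategoryTheory.forget AddCommGrpCat.{v})).obj
    ⟨N.val.presheaf, N.isSheaf⟩).property) T hT).isSeparatedFor.ext h

variable {S : Sheaf J RingCat.{u}} {R : Sheaf K RingCat.{u}} [Functor.IsContinuous F J K]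
  (φ : S ⟶ (F.sheafPushforwardContinuous RingCat.{u} J K).obj R)

theorem faithful_pushforward [F.IsCoverDense K] [F.IsLocallyFull K] :
    (SheafOfModules.pushforward.{v} φ).Faithful where
  map_injective {M N f g} h := by
    apply (SheafOfModules.toSheaf R).map_injective
    apply (F.sheafPushforwardContinuous AddCommGrpCat.{v} J K).map_injective
    exact congrArg (fun k => (SheafOfModules.toSheaf S).map k) h

theorem full_pushforward [F.IsCoverDense K] [F.IsLocallyFull K]
    (hφ : Presheaf.IsLocallySurjective J φ.hom) :
    (SheafOfModules.pushforward.{v} φ).Full where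
  map_surjective {M N} h := by
    obtain ⟨ψ, hψ⟩ := (F.sheafPushforwardContinuous AddCommGrpCat.{v} J K).map_surjective
      (X := (SheafOfModules.toSheaf R).obj M) (Y := (SheafOfModules.toSheaf R).obj N)
      ((SheafOfModules.toSheaf S).map h)
    let ψ' : ∀ X : D, M.val.obj (op X) → N.val.obj (op X) := fun X m => (ψ.hom.app (op X)).hom m
    have hψ' : ∀ (Y : C) (m : M.val.obj (op (F.obj Y))),
        ψ' (F.obj Y) m = (h.val.app (op Y)) m := by
      intro Y m
      have h0 := congrArg (fun k => k.hom.app (op Y)) hψ
      exact congrArg (fun k => k.hom m) h0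
    have nat : ∀ {X Y : D} (f : Y ⟶ X) (m : M.val.obj (op X)),
        N.val.map f.op (ψ' X m) = ψ' Y (M.val.map f.op m) := fun f m =>
      (CategoryTheory.congr_fun (ψ.hom.naturality f.op) m).symm
    -- linearity over the sheaf of rings `R` on objects of `C`
    have lin : ∀ (Y : C) (r : R.obj.obj (op (F.obj Y))) (m : M.val.obj (op (F.obj Y))),
        ψ' (F.obj Y) (r • m) = r • ψ' (F.obj Y) m := by
      intro Y r m
      refine ext_of_cover (K := J) ((SheafOfModules.pushforward.{v} φ).obj N)
        (hφ.imageSieve_mem (U := Y) r) ?_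
      rintro V g ⟨t, ht⟩
      have ht' : (φ.hom.app (op V)) t = R.obj.map (F.map g).op r := ht
      change N.val.map (F.map g).op (ψ' (F.obj Y) (r • m)) =
        N.val.map (F.map g).op (r • ψ' (F.obj Y) m)
      rw [nat, M.val.map_smul, N.val.map_smul, nat]
      change ψ' (F.obj V) (R.obj.map (F.map g).op r • M.val.map (F.map g).op m) =
        R.obj.map (F.map g).op r • ψ' (F.obj V) (M.val.map (F.map g).op m)
      have key : ∀ (r' : R.obj.obj (op (F.obj V))) (m' : M.val.obj (op (F.obj V))),
          (φ.hom.app (op V)) t = r' → ψ' (F.obj V) (r' • m') = r' • ψ' (F.obj V) m' := by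
        intro r' m' hr
        refine (hψ' V _).trans (Eq.trans ?_ (congrArg (fun z => r' • z) (hψ' V m').symm))
        subst hr
        exact (h.val.app (op V)).hom.map_smul t m'
      exact key _ _ ht'
    refine ⟨⟨PresheafOfModules.homMk ψ.hom ?_⟩, ?_⟩
    · rintro ⟨X⟩ r m
      refine ext_of_dense (F := F) N X fun Y f => ?_
      change N.val.map f.op (ψ' X (r • m)) = N.val.map f.op (r • ψ' X m)
      rw [nat, M.val.map_smul, N.val.map_smul, nat]
      exact lin Y _ _
    · apply SheafOfModules.hom_ext
      ext Y m
      exact hψ' Y.unop m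

end K599.ModFF
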