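import Mathlib.AlgebraicGeometry.Noetherian
import Mathlib.AlgebraicGeometry.Morphisms.FiniteType
import Groth.Agent.CalgA.NagataExt
import Groth.Agent.Ega4B.NagBasic
import Groth.Agent.S0566

/-!
# Nagata schemes: Zariski locality, finite type morphisms

* `isNagata_of_away`: a ring is Nagata if its localizations at a finite family generating the unit ideal are;
* `isNagata_of_locallyOfFiniteType`: a scheme locally of finite type over a Nagata scheme is Nagata.
-/

set_option autoImplicit false
universe u
open CategoryTheory CategoryTheory.Limits AlgebraicGeometry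

namespace K599.Nagata

open CAlg

theorem isNagata_of_away {R : Type u} [CommRing R] (s : Finset R) (hs : Ideal.span (s : Set R) = ⊤)
    (h : ∀ f : s, IsNagata (Localization.Away f.1)) : IsNagata R := by
  refine ⟨isNoetherianRing_of_away s hs fun f => (h f).1, fun p hp => ?_⟩
  let q := Ideal.Quotient.mk p
  refine Groth.Agent.CalgA.NagataExt.isN2_of_span_eq_top (q '' s) ?_ ?_
  · rw [← Ideal.map_span, hs, Ideal.map_top]
  · rintro _ ⟨f, hf, rfl⟩ hf0 T _ _ _ _
    have hN := h ⟨f, hf⟩
    let φ : Localization.Away f →+* T := IsLocalization.Away.lift (S := Localization.Away f) f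
      (g := (algebraMap (R ⧸ p) T).comp q) (IsLocalization.Away.algebraMap_isUnit (q f))
    have hφ : Function.Surjective φ := by
      intro t
      obtain ⟨⟨a, ⟨_, n, rfl⟩⟩, ht⟩ := IsLocalization.surj (Submonoid.powers (q f)) t
      obtain ⟨a, rfl⟩ := Ideal.Quotient.mk_surjective a
      let y : Submonoid.powers f := ⟨f ^ n, Submonoid.mem_powers_iff _ _ |>.2 ⟨n, rfl⟩⟩
      refine ⟨IsLocalization.mk' (Localization.Away f) a y, ?_⟩
      have hu : IsUnit (algebraMap (R ⧸ p) T (q f ^ n)) := by
        rw [map_pow]; exact (IsLocalization.Away.algebraMap_isUnit (q f)).pow n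
      rw [← hu.mul_left_inj]
      refine Eq.trans ?_ ht.symm
      have h1 : algebraMap (R ⧸ p) T (q f ^ n) = φ (algebraMap R (Localization.Away f) (f ^ n)) := by
        rw [IsLocalization.Away.lift_eq]; simp
      rw [h1, ← map_mul]
      have h2 : IsLocalization.mk' (Localization.Away f) a y *
          algebraMap R (Localization.Away f) (f ^ n) = algebraMap R (Localization.Away f) a :=
        IsLocalization.mk'_spec _ a y
      rw [h2, IsLocalization.Away.lift_eq]
      rfl
    let : Algebra (Localization.Away f) T := φ.toAlgebra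
    have : Module.Finite (Localization.Away f) T :=
      Module.Finite.of_surjective (Algebra.linearMap (Localization.Away f) T) hφ
    exact Groth.Agent.CalgA.NagataExt.isN2_of_finite_of_isNagata hN

/-- A scheme locally of finite type over a Nagata scheme is Nagata. -/
theorem isNagata_of_locallyOfFiniteType {X Y : Scheme.{u}} (f : X ⟶ Y) [LocallyOfFiniteType f]
    (hY : ∀ V : Y.Opens, IsAffineOpen V → IsNagata Γ(Y, V)) (U : X.Opens) (hU : IsAffineOpen U) :
    IsNagata Γ(X, U) := by
  let ι := {W : X.affineOpens // ∃ V : Y.affineOpens, W.1 ≤ f ⁻¹ᵁ V.1}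
  refine of_affine_open_cover (P := fun U : X.affineOpens => IsNagata Γ(X, U.1))
    (fun i : ι => i.1) ?_ ⟨U, hU⟩ ?_ ?_ ?_
  · rw [eq_top_iff]
    intro x _
    obtain ⟨_, ⟨V, hV, rfl⟩, hxV, -⟩ := Y.isBasis_affineOpens.exists_subset_of_mem_open
      (Set.mem_univ (f x)) isOpen_univ
    obtain ⟨_, ⟨W, hW, rfl⟩, hxW, hWV⟩ := X.isBasis_affineOpens.exists_subset_of_mem_open
      (show x ∈ (f ⁻¹ᵁ V : Set X) from hxV) (f ⁻¹ᵁ V).2
    exact TopologicalSpace.Opens.mem_iSup.2 ⟨⟨⟨W, hW⟩, ⟨V, hV⟩, hWV⟩, hxW⟩
  · intro U f h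
    have := U.2.isLocalization_basicOpen f
    exact Groth.Agent.Ega4B.NagBasic.isNagata_localization h (Submonoid.powers f)
      Γ(X, X.basicOpen f)
  · intro U s hs h
    refine isNagata_of_away s hs fun f => ?_
    have := U.2.isLocalization_basicOpen f.1
    exact Groth.Agent.Ega4B.NagBasic.isNagata_of_ringEquiv
      (IsLocalization.algEquiv (Submonoid.powers f.1) Γ(X, X.basicOpen f.1)
        (Localization.Away f.1)).toRingEquiv (h f)
  · rintro ⟨W, V, hWV⟩
    have hV := hY V.1 V.2
    have h1 : (f.appLE V.1 W.1 hWV).hom.FiniteType :=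
      f.finiteType_appLE V.2 W.2 hWV
    algebraize [(f.appLE V.1 W.1 hWV).hom]
    exact Groth.Agent.S0566.result _ hV _

end K599.Nagata
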