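import Groth.Agent.AlgSp.K598.SchImg
import Groth.Agent.AlgSp.K600.Basic
import Groth.Agent.S2121

/-!
# Valuation rings reaching the points of the scheme theoretic image (S9979)
-/

set_option autoImplicit false
set_option backward.isDefEq.respectTransparency false
set_option backward.isDefEq.respectTransparency.types false
universe u
open CategoryTheory CategoryTheory.Limits AlgebraicGeometry Opposite
open AlgSp K598.SchImg K598.ClFam

namespace K599.ValImage

variable {S : Scheme.{u}} {X Y Z : Sp S}

/-- A point of a closed subscheme `V` of `T` lies in the closure of the image of `U ⟶ V` if the kernels agree. -/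
theorem mem_closure_of_ker {U V T : Scheme.{u}} (q' : U ⟶ V) (s : V ⟶ T) [IsClosedImmersion s]
    [QuasiCompact (q' ≫ s)] (h : s.ker = (q' ≫ s).ker) (v : V) : v ∈ closure (Set.range q') := by
  have h1 := Scheme.Hom.support_ker s
  have h2 := Scheme.Hom.support_ker (q' ≫ s)
  rw [h, h2] at h1
  have h3 : s v ∈ closure (Set.range s) := subset_closure ⟨v, rfl⟩
  rw [← h1] at h3
  have h4 : Set.range (q' ≫ s) = s '' Set.range q' := by
    rw [← Set.range_comp]; rfl
  rw [h4] at h3
  rw [s.isClosedEmbedding.isInducing.closure_eq_preimage_closure_image]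
  exact h3

theorem exists_valuationRing (hY : IsAlgSpace Y) (f : X ⟶ Y) (i : Z ⟶ Y) (hq : IsQuasiCompactMor f)
    (hZ : IsSchImage f i) (z : Points Z) :
    ∃ (A : Type u) (_ : CommRing A) (_ : IsDomain A) (_ : ValuationRing A) (str : Spec (CommRingCat.of A) ⟶ S)
      (a : (yon S).obj (Over.mk str) ⟶ Z)
      (x : (yon S).obj (Over.mk (Spec.map (CommRingCat.ofHom (algebraMap A (FractionRing A))) ≫ str)) ⟶ X),
      Points.ofPt a (IsLocalRing.closedPoint A) = z ∧
      x ≫ f = (yon S).map (Over.homMk (Spec.map (CommRingCat.ofHom (algebraMap A (FractionRing A)))) rfl) ≫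
        a ≫ i := by
  obtain ⟨ι, T, p, hp, hT, hpt⟩ := K598.Charts.exists_affine_charts hY
  have hi := hZ.1
  obtain ⟨j, t, ht⟩ := hpt (Points.map i z)
  have hTj := hT j
  have sqi := hi.1.isPullback (p j)
  have hcl : IsClosedImmersion (hi.1.snd (p j)).left := hi.2 _ _ _ sqi
  -- the point of the closed subscheme
  obtain ⟨w, hw1, -⟩ := K609.Points.exists_of_isPullback sqi z (Points.ofScheme _ t) (by
    rw [← Points.ofPt_eq_map_ofScheme, ht])
  obtain ⟨v, rfl⟩ := K609.Points.ofScheme_surjective _ w
  rw [← Points.ofPt_eq_map_ofScheme] at hw1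
  -- the chart of the pullback of `X`
  obtain ⟨P, fst, snd, sq, U, u, q, hu, hus, huq, hqc⟩ := exists_qc_chart hq (p j)
  obtain ⟨f', hf'⟩ := hZ.2.1
  obtain ⟨q', hq'1, hq'2⟩ := K600.Basic.exists_lift sqi (u ≫ fst ≫ f') q (by
    rw [Category.assoc, Category.assoc, hf', sq.w, ← Category.assoc, huq])
  have hker : (hi.1.snd (p j)).left.ker = q.left.ker := by
    rw [← ofClosed_eq hi sqi, image_eq_K hY hq hi hZ (p j) hTj (K598.Charts.repWith_flat_of_etale (hp j)),
      K_eq_ker sq u hu hus q huq]
  have hq'l : q'.left ≫ (hi.1.snd (p j)).left = q.left := by rw [← Over.comp_left, hq'2]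
  have hqc2 : QuasiCompact (q'.left ≫ (hi.1.snd (p j)).left) := by rw [hq'l]; exact hqc
  have hqc' : QuasiCompact q'.left := QuasiCompact.of_comp q'.left (hi.1.snd (p j)).left
  have hv := mem_closure_of_ker q'.left (hi.1.snd (p j)).left (by rw [hker, hq'l]) v
  obtain ⟨A, _, _, _, x, y, hxy, hy⟩ := Groth.Agent.S2121.result q'.left v hv
  have hxU : x ≫ U.hom = Spec.map (CommRingCat.ofHom (algebraMap A (FractionRing A))) ≫ y ≫
      (hi.1.pullback (p j)).hom := by
    rw [← Category.assoc, ← hxy, Category.assoc, Over.w]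
  let y' : Over.mk (y ≫ (hi.1.pullback (p j)).hom) ⟶ hi.1.pullback (p j) := Over.homMk y rfl
  let x' : Over.mk (Spec.map (CommRingCat.ofHom (algebraMap A (FractionRing A))) ≫ y ≫
      (hi.1.pullback (p j)).hom) ⟶ U := Over.homMk x hxU
  refine ⟨A, inferInstance, inferInstance, inferInstance, y ≫ (hi.1.pullback (p j)).hom,
    (yon S).map y' ≫ hi.1.fst (p j), (yon S).map x' ≫ u ≫ fst, ?_, ?_⟩
  · rw [K609.Points.ofPt_yon_map_comp, ← hw1]
    congr 1
  · have e : x' ≫ q' = Over.homMk (Spec.map (CommRingCat.ofHom (algebraMap A (FractionRing A)))) rfl ≫ y' := by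
      ext1
      exact hxy
    rw [Category.assoc, Category.assoc, sq.w, ← Category.assoc u, huq, Category.assoc, sqi.w, ← hq'2,
      Functor.map_comp, Category.assoc]
    have e' := congrArg (fun m => (yon S).map m ≫ (yon S).map (hi.1.snd (p j)) ≫ p j) e
    simp only [Functor.map_comp, Category.assoc] at e'
    exact e'

end K599.ValImage
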